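import Cfsg.Agent.H1.Core2.GoodCentral
import Cfsg.Agent.H10.Core2.Setup
import Cfsg.Agent.S3289
import Cfsg.Agent.Cores.PCore

/-!
# Killing an odd subgroup which balances the centralisers

`W` has odd order, a Sylow 2-subgroup `S` normalises it and fusion respects the fixed points in `W`
of the involutions of `S` (`Sig S W`).  If an element of `S#` centralises `W`, or a 2-central involution has its
centraliser in `N(W)` and `N(W)` holds the normalisers of the 2-subgroups of rank two, then `W = 1`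
when `O(G) = 1`.
-/

set_option autoImplicit false
set_option linter.unusedSectionVars false
set_option linter.style.haveILetI false

namespace Cfsg.Agent.H88.Core2

open Subgroup MulAction Cfsg.Agent
open Cfsg.Agent.H39
open Cfsg.Agent.H1.Core2 (TwoCore)
open Cfsg.Agent.H1.Asch.Red
open Cfsg.Agent.H14.Asch
open Cfsg (IsStronglyEmbedded)
open scoped commutatorElement

universe u

local instance fact_two_core2_general : Fact (Nat.Prime 2) := ⟨Nat.prime_two⟩

variable {G : Type u} [Group G] [Finite G]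

theorem le_oddCore_of_normal {K : Subgroup G} [K.Normal] (hodd : Odd (Nat.card K)) :
    K ≤ Cfsg.oddCore G :=
  Cores.le_pPrimeCore (Nat.coprime_two_right.mpr hodd)

theorem oddCore_eq_bot_of_normal (hO : Cfsg.oddCore G = ⊥) (X : Subgroup G) [X.Normal] :
    Cfsg.oddCore ↥X = ⊥ := by
  rw [← map_eq_bot_iff_of_injective _ X.subtype_injective]
  exact le_bot_iff.1 ((Cores.map_pPrimeCore_le_of_isSubnormal
    (Subgroup.Normal.isSubnormal (H := X) inferInstance)).trans hO.le)

/-- An odd normal subgroup of a strongly embedded subgroup centralises a normal subgroup without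
odd core. -/
theorem le_centralizer_of_se {Y : Type u} [Group Y] [Finite Y] {X W H : Subgroup Y} [X.Normal]
    (hX : Cfsg.oddCore ↥X = ⊥) (hH : IsStronglyEmbedded H) (hWH : W ≤ H)
    (hHW : H ≤ normalizer (W : Set Y)) (hW : Odd (Nat.card W)) :
    W ≤ centralizer (X : Set Y) := by
  have hn : (W.subgroupOf H).Normal := (normal_subgroupOf_iff_le_normalizer hWH).2 hHW
  have hWO : W ≤ Cfsg.oddCore Y := by
    refine le_trans ?_ (Cfsg.Agent.S1221.result H hH)
    rw [← map_subgroupOf_eq_of_le hWH]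
    refine map_mono (le_oddCore_of_normal ?_)
    rwa [Nat.card_congr (subgroupOfEquivOfLe hWH).toEquiv]
  refine hWO.trans (commutator_eq_bot_iff_le_centralizer.1 (le_bot_iff.1 ?_))
  have hle : ⁅Cfsg.oddCore Y, X⁆ ≤ Cfsg.oddCore Y ⊓ X :=
    le_inf (commutator_le_left _ _) (commutator_le_right _ _)
  refine hle.trans ?_
  have h1 : (Cfsg.oddCore Y ⊓ X).subgroupOf X ≤ Cfsg.oddCore ↥X := by
    refine le_oddCore_of_normal ?_
    rw [Nat.card_congr (subgroupOfEquivOfLe inf_le_right).toEquiv]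
    exact Odd.of_dvd_nat Cores.odd_card_oddCore (card_dvd_of_le inf_le_left)
  rw [hX] at h1
  intro v hv
  have h2 : (⟨v, hv.2⟩ : ↥X) = 1 := mem_bot.1 (h1 hv)
  exact mem_bot.2 (congrArg Subtype.val h2)

/-- No normal subgroup meets `N(W)` in a strongly embedded subgroup. -/
theorem not_inter_se (hO : Cfsg.oddCore G = ⊥) {W : Subgroup G} (hW : Odd (Nat.card W))
    {X : Subgroup G} [X.Normal]
    (hse : IsStronglyEmbedded ((normalizer (W : Set G) ⊓ X).subgroupOf X)) : False := by
  set M := normalizer (W : Set G) with hM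
  set P := M ⊓ X with hP
  have hne : ¬ X ≤ M := fun hle => hse.1 (subgroupOf_eq_top.2 (le_inf hle le_rfl))
  set Y := X ⊔ W
  set H := P ⊔ W
  have hWn : W ≤ normalizer (X : Set G) := by rw [normalizer_eq_top_iff.2 ‹_›]; exact le_top
  have hPn : W ≤ normalizer (P : Set G) :=
    (le_inf (le_normalizer.trans le_normalizer) hWn).trans inf_normalizer_le_normalizer_inf
  have hHY : H ≤ Y := sup_le_sup_right inf_le_right _
  have hHX : ∀ v ∈ H, v ∈ X → v ∈ P := by
    intro v hv hvX
    obtain ⟨p, hp, w, hw, rfl⟩ := (Coprime.mem_sup_iff hPn).1 hv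
    exact mul_mem hp ⟨le_normalizer hw, by simpa using X.mul_mem (X.inv_mem hp.2) hvX⟩
  have hinv : ∀ v ∈ Y, orderOf v = 2 → v ∈ X := by
    intro v hv hv2
    obtain ⟨x, hx, w, hw, rfl⟩ := (Coprime.mem_sup_iff hWn).1 hv
    set π := QuotientGroup.mk' X
    have h1 : π (x * w) = π w := by
      rw [map_mul, show π x = 1 from (QuotientGroup.eq_one_iff x).2 hx, one_mul]
    refine (QuotientGroup.eq_one_iff _).1 (show π (x * w) = 1 from orderOf_eq_one_iff.1 ?_)
    refine Nat.eq_one_of_dvd_coprimes (Nat.coprime_two_left.2 hW)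
      ((orderOf_map_dvd π _).trans hv2.dvd) ?_
    rw [h1]
    exact (orderOf_map_dvd π w).trans (orderOf_dvd_natCard W hw)
  have hseY : IsStronglyEmbedded (H.subgroupOf Y) := by
    refine ⟨fun e => hne fun x hx => ?_, ?_, fun g hg => ?_⟩
    · exact (hHX x ((subgroupOf_eq_top.1 e) (mem_sup_left hx)) hx).1
    · rw [Nat.card_congr (subgroupOfEquivOfLe hHY).toEquiv, even_iff_two_dvd]
      refine dvd_trans ?_ (card_dvd_of_le (le_sup_left : P ≤ H))
      have h2 := hse.2.1.two_dvd
      rwa [Nat.card_congr (subgroupOfEquivOfLe (inf_le_right : P ≤ X)).toEquiv] at h2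
    rw [← Nat.not_even_iff_odd]
    intro heven
    obtain ⟨⟨v, hv⟩, hv2⟩ := exists_prime_orderOf_dvd_card' 2 heven.two_dvd
    rw [Subgroup.orderOf_mk, ← Subgroup.orderOf_coe] at hv2
    obtain ⟨hvH, u, hu, huv⟩ := hv
    obtain ⟨x, hx, w, hw, e⟩ := (Coprime.mem_sup_iff hWn).1 g.2
    have hwH : w ∈ H := mem_sup_right hw
    have hu' : w * (u : G) * w⁻¹ ∈ H := mul_mem (mul_mem hwH (mem_subgroupOf.1 hu)) (inv_mem hwH)
    have hvu : (v : G) = x * (w * (u : G) * w⁻¹) * x⁻¹ := by
      rw [← huv]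
      show (g : G) * u * (g : G)⁻¹ = _
      rw [← e]; group
    have hvX : (v : G) ∈ X := hinv _ v.2 hv2
    have hvP : (v : G) ∈ P := hHX _ (mem_subgroupOf.1 hvH) hvX
    have huX : w * (u : G) * w⁻¹ ∈ X := by
      have := X.mul_mem (X.mul_mem (X.inv_mem hx) hvX) hx
      rwa [hvu, show x⁻¹ * (x * (w * (u : G) * w⁻¹) * x⁻¹) * x = w * u * w⁻¹ by group] at this
    have huP := hHX _ hu' huX
    have hxM : (⟨x, hx⟩ : ↥X) ∉ P.subgroupOf X := fun hxP => hg (mem_subgroupOf.2 (by
      rw [← e]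
      exact mul_mem (mem_sup_left hxP) hwH))
    refine Nat.not_even_iff_odd.2 (hse.2.2 ⟨x, hx⟩ hxM) (even_iff_two_dvd.2 ?_)
    have hmem : (⟨v, hvX⟩ : ↥X) ∈ P.subgroupOf X ⊓
        (P.subgroupOf X).map (MulAut.conj (⟨x, hx⟩ : ↥X)).toMonoidHom :=
      ⟨hvP, ⟨⟨_, huX⟩, huP, Subtype.ext hvu.symm⟩⟩
    have h3 := Subgroup.orderOf_dvd_natCard _ hmem
    rwa [← Subgroup.orderOf_coe, hv2] at h3
  haveI : (X.subgroupOf Y).Normal := inferInstance
  have hXY : Cfsg.oddCore ↥(X.subgroupOf Y) = ⊥ := by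
    have h1 := Cores.pPrimeCore_map_mulEquiv (p := 2)
      (subgroupOfEquivOfLe (le_sup_left : X ≤ Y)).symm
    rw [show Cfsg.pPrimeCore 2 ↥X = ⊥ from oddCore_eq_bot_of_normal hO X, Subgroup.map_bot] at h1
    exact h1.symm
  have hc := le_centralizer_of_se (X := X.subgroupOf Y) (W := W.subgroupOf Y) hXY hseY
    (comap_mono le_sup_right) ?_ (by rwa [Nat.card_congr (subgroupOfEquivOfLe le_sup_right).toEquiv])
  · refine hne fun x hx => centralizer_le_normalizer (W : Set G) (mem_centralizer_iff.2 fun w hw => ?_)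
    exact (congrArg Subtype.val (mem_centralizer_iff.1 (hc (show (⟨w, le_sup_right (a := X) hw⟩ : ↥Y) ∈
      W.subgroupOf Y from hw)) ⟨x, mem_sup_left hx⟩ (show (⟨x, mem_sup_left hx⟩ : ↥Y) ∈
      X.subgroupOf Y from hx))).symm
  · exact (comap_mono (sup_le inf_le_left le_normalizer : H ≤ M)).trans
      (le_normalizer_comap (H := W) Y.subtype)

variable {S : Sylow 2 G} {W : Subgroup G}

open Cfsg.Agent.H10.Core2 (Sig)

theorem normalizer_ne_top (hO : Cfsg.oddCore G = ⊥) (h : Sig S W) (hW : W ≠ ⊥) :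
    normalizer (W : Set G) ≠ ⊤ := fun e => by
  haveI : W.Normal := normalizer_eq_top_iff.1 e
  exact hW (le_bot_iff.1 ((le_oddCore_of_normal h.odd).trans hO.le))

/-- An element moving an involution of `C_S(W)` inside `S` normalises `W`. -/
theorem mem_normalizer_of_conj (h : Sig S W) {s : G} (hs : s ∈ (S : Subgroup G)) (hs2 : orderOf s = 2)
    (hsW : s ∈ centralizer (W : Set G)) {g : G} (hg : g * s * g⁻¹ ∈ (S : Subgroup G)) :
    g ∈ normalizer (W : Set G) := by
  have h1 : W ⊓ centralizer ({s} : Set G) = W :=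
    inf_eq_left.2 fun w hw =>
      mem_centralizer_singleton_iff.2 (mem_centralizer_iff.1 hsW w hw)
  refine Coprime.mem_normalizer_of_map_conj (eq_of_le_of_card_ge ?_ (by rw [Coprime.card_map_conj]))
  have h2 := h.conj s g hs hs2 hg
  rw [h1] at h2
  rw [h2]
  exact inf_le_left

/-- **An element of `S#` centralising `W` forces `W = 1`.** -/
theorem eq_bot_of_centralized (hO : Cfsg.oddCore G = ⊥) (h : Sig S W) {t : G} (ht : t ∈ (S : Subgroup G)) (ht1 : t ≠ 1)
    (htW : t ∈ centralizer (W : Set G)) : W = ⊥ := by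
  by_contra hW
  set T := (S : Subgroup G) ⊓ centralizer (W : Set G)
  have hpow : ∀ x ∈ T, x ≠ 1 → ∃ n : ℕ, orderOf (x ^ n) = 2 := by
    intro x hx hx1
    obtain ⟨k, hk⟩ := IsPGroup.iff_orderOf.1 S.isPGroup' ⟨x, hx.1⟩
    rw [Subgroup.orderOf_mk] at hk
    have hk1 : k ≠ 0 := fun e => hx1 (orderOf_eq_one_iff.1 (by rw [hk, e, pow_zero]))
    refine ⟨2 ^ (k - 1), ?_⟩
    rw [orderOf_pow_of_dvd (pow_ne_zero _ two_ne_zero)
      (hk ▸ pow_dvd_pow 2 (Nat.sub_le k 1)), hk, Nat.pow_div (Nat.sub_le k 1) two_pos,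
      show k - (k - 1) = 1 by omega, pow_one]
  have hmove : ∀ x ∈ T, x ≠ 1 → ∀ g : G, g * x * g⁻¹ ∈ (S : Subgroup G) →
      g ∈ normalizer (W : Set G) := by
    intro x hx hx1 g hg
    obtain ⟨n, hn⟩ := hpow x hx hx1
    exact mem_normalizer_of_conj h (pow_mem hx.1 n) hn (pow_mem hx.2 n)
      (by rw [← conj_pow]; exact pow_mem hg n)
  have hsc : Cfsg.IsStronglyClosed T (S : Subgroup G) := by
    refine ⟨inf_le_left, fun x hx g hg => ⟨hg, ?_⟩⟩
    rcases eq_or_ne x 1 with rfl | hx1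
    · simp
    exact Coprime.conj_mem (H40.normalizer_le_normalizer_centralizer W (hmove x hx hx1 g hg)) hx.2
  have hC : ∀ x ∈ T, x ≠ 1 → centralizer ({x} : Set G) ≤ normalizer (W : Set G) :=
    fun x hx hx1 c hc => hmove x hx hx1 c (by
      rw [mem_centralizer_singleton_iff.1 hc, mul_inv_cancel_right]; exact hx.1)
  have hN : normalizer ((Cfsg.omegaOne 2 T : Subgroup G) : Set G) ≤ normalizer (W : Set G) := by
    obtain ⟨n, hn⟩ := hpow t ⟨ht, htW⟩ ht1
    have htn : t ^ n ∈ T := pow_mem (show t ∈ T from ⟨ht, htW⟩) n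
    intro g hg
    refine hmove (t ^ n) htn (H39.ne_one_of_orderOf_eq_two hn) g ?_
    have hle : Cfsg.omegaOne 2 T ≤ T := by
      rw [Cfsg.omegaOne]
      exact (closure_le T).2 fun x hx => hx.1
    have hmem : t ^ n ∈ Cfsg.omegaOne 2 T := by
      rw [Cfsg.omegaOne]
      exact subset_closure ⟨htn, by rw [← hn]; exact pow_orderOf_eq_one _⟩
    exact (hle ((mem_normalizer_iff.1 hg _).1 hmem)).1
  have hT : T ≠ ⊥ := fun e => ht1 (mem_bot.1 (e ▸ (⟨ht, htW⟩ : t ∈ T)))
  exact not_inter_se hO h.odd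
    (Cfsg.Agent.S3289.result S T hT hsc _ (normalizer_ne_top hO h hW) hC hN).1

/-- The core of `N(W)` is trivial. -/
theorem normalCore_eq_bot (hO : Cfsg.oddCore G = ⊥) (h : Sig S W) (hW : W ≠ ⊥) : (normalizer (W : Set G)).normalCore = ⊥ := by
  set K := (normalizer (W : Set G)).normalCore with hK
  haveI : K.Normal := normalCore_normal _
  by_contra hne
  have hKW : K ≤ normalizer (W : Set G) := normalCore_le _
  have hKc : K ≤ centralizer (W : Set G) := by
    refine commutator_eq_bot_iff_le_centralizer.1 (le_bot_iff.1 ?_)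
    have hle : ⁅K, W⁆ ≤ W ⊓ K :=
      le_inf (le_normalizer_iff_commutator_le_right.1 hKW) (commutator_le_left _ _)
    refine hle.trans ?_
    haveI : ((W ⊓ K).subgroupOf K).Normal := normal_subgroupOf_of_le_normalizer
      ((le_inf hKW le_normalizer).trans inf_normalizer_le_normalizer_inf)
    have h1 : (W ⊓ K).subgroupOf K ≤ Cfsg.oddCore ↥K := by
      refine le_oddCore_of_normal ?_
      rw [Nat.card_congr (subgroupOfEquivOfLe inf_le_right).toEquiv]
      exact h.odd.of_dvd_nat (card_dvd_of_le inf_le_left)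
    rw [oddCore_eq_bot_of_normal hO K] at h1
    intro v hv
    have h2 : (⟨v, hv.2⟩ : ↥K) = 1 := mem_bot.1 (h1 (mem_subgroupOf.2 hv))
    exact mem_bot.2 (congrArg Subtype.val h2)
  have heven : 2 ∣ Nat.card K := by
    by_contra hodd
    exact hne (le_bot_iff.1 ((le_oddCore_of_normal
      (Nat.not_even_iff_odd.1 fun he => hodd he.two_dvd)).trans hO.le))
  obtain ⟨⟨v, hv⟩, hv2⟩ := exists_prime_orderOf_dvd_card' 2 heven
  rw [Subgroup.orderOf_mk] at hv2
  obtain ⟨g, hg⟩ := H39.exists_conj_le_sylow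
    (IsPGroup.of_card (n := 1) (by rw [Nat.card_zpowers, hv2, pow_one]) : IsPGroup 2 ↥(zpowers v)) S
  exact hW (eq_bot_of_centralized hO h (hg v (mem_zpowers v))
    (H39.ne_one_of_orderOf_eq_two (by rw [H39.orderOf_conj, hv2]))
    (hKc ((inferInstance : K.Normal).conj_mem v hv g)))

/-- **A good 2-central involution forces `W = 1`.** -/
theorem eq_bot_of_good (hO : Cfsg.oddCore G = ⊥) (h : Sig S W)
    (hT : TwoCore (normalizer (W : Set G)) S) {z : G} (hz : orderOf z = 2)
    (hzS : z ∈ (S : Subgroup G)) (hcent : ∀ s ∈ (S : Subgroup G), Commute s z)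
    (hC : centralizer ({z} : Set G) ≤ normalizer (W : Set G)) : W = ⊥ := by
  by_contra hW
  set M := normalizer (W : Set G) with hM
  have hMtop : M ≠ ⊤ := normalizer_ne_top hO h hW
  have hcore : M.normalCore = ⊥ := normalCore_eq_bot hO h hW
  have hzM : z ∈ M := h.invariant hzS
  have huniq : ∀ {a : G}, IsConj z a → ∀ {p q : G ⧸ M}, a • p = p → a • q = q → p = q := by
    intro a ha p q hp hq
    obtain ⟨g, rfl⟩ := isConj_iff.mp ha
    have hone : ∀ {r : G ⧸ M}, (g * z * g⁻¹) • r = r → g⁻¹ • r = QuotientGroup.mk 1 :=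
      fun {r} hr => hT.fixed_eq_one hz hC (by
        rw [← mul_smul, show z * g⁻¹ = g⁻¹ * (g * z * g⁻¹) by group, mul_smul, hr])
    exact MulAction.injective g⁻¹ ((hone hp).trans (hone hq).symm)
  have hset : Setting G (G ⧸ M) (conjugatesOf z) z := by
    refine setting_cosets (fun {a} ha g => (show IsConj z a from ha).trans (isConj_iff.mpr ⟨g, rfl⟩))
      (fun {a} ha => ?_) ?_ ?_ mem_conjugatesOf_self S hcent hMtop ?_
    · obtain ⟨g, rfl⟩ := isConj_iff.mp ha
      rw [H39.orderOf_conj, hz]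
    · intro a ha
      obtain ⟨g, rfl⟩ := isConj_iff.mp ha
      exact ⟨g, by simpa [mul_assoc] using hzM⟩
    · intro a ha haM g hg
      have := huniq ha (p := QuotientGroup.mk g⁻¹) (q := QuotientGroup.mk 1)
        ((smul_coset_eq_iff _ _).mpr (by simpa using hg)) ((fixed_one_iff a).mpr haM)
      simpa using (mk_eq_one_iff g⁻¹).mp this
    · intro a ha b hb haM hbM hab hc c hcC
      have hcc : Commute c (a * b) := mem_centralizer_singleton_iff.mp hcC
      have h1 : (a * b) • (QuotientGroup.mk 1 : G ⧸ M) = QuotientGroup.mk 1 :=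
        (fixed_one_iff _).mpr (mul_mem haM hbM)
      refine (mk_eq_one_iff c).mp (hT.prod_unique hz hcent hzS huniq ha hb hab hc
        (q := QuotientGroup.mk 1) ?_ h1)
      rw [smul_coset_eq_iff, show c⁻¹ * (a * b) * c = a * b by
        rw [mul_assoc, ← hcc.eq, inv_mul_cancel_left]]
      exact mul_mem haM hbM
  have hcl : Clique G (G ⧸ M) (conjugatesOf z) := by
    refine hset.clique_of_faithful fun g hg => ?_
    refine Subgroup.mem_bot.mp (hcore ▸ (fun b => ?_ : g ∈ M.normalCore))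
    have := (smul_coset_eq_iff g b⁻¹).mp (hg (QuotientGroup.mk b⁻¹))
    simpa using this
  set X := closure (conjugatesOf z) with hX
  haveI : X.Normal := by
    rw [hX, show closure (conjugatesOf z) = normalClosure ({z} : Set G) by
      rw [normalClosure, Group.conjugatesOfSet, Set.biUnion_singleton]]
    infer_instance
  have hzX : z ∈ X := subset_closure mem_conjugatesOf_self
  refine not_inter_se hO h.odd (X := X) ⟨fun e => ?_, ?_, fun g hg => ?_⟩
  · have hXM : X ≤ M := (subgroupOf_eq_top.1 e).trans inf_le_left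
    have := Subgroup.normal_le_normalCore.2 hXM hzX
    rw [hcore, mem_bot] at this
    exact H39.ne_one_of_orderOf_eq_two hz this
  · rw [even_iff_two_dvd, ← hz, ← Subgroup.orderOf_mk z hzX]
    exact Subgroup.orderOf_dvd_natCard _ (mem_subgroupOf.2 ⟨hzM, hzX⟩)
  rw [← Nat.not_even_iff_odd]
  intro heven
  obtain ⟨⟨w, hw⟩, hw2⟩ := exists_prime_orderOf_dvd_card' 2 heven.two_dvd
  rw [Subgroup.orderOf_mk, ← Subgroup.orderOf_coe] at hw2
  obtain ⟨hwM, v, hv, hvw⟩ := hw
  have h2' : (w : G) • (QuotientGroup.mk (g : G) : G ⧸ M) = QuotientGroup.mk (g : G) := by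
    rw [smul_coset_eq_iff, ← hvw]
    have := (mem_subgroupOf.1 hv).1
    simpa [mul_assoc] using this
  exact hg (mem_subgroupOf.2 ⟨(mk_eq_one_iff (g : G)).mp (hset.noBad H73.Asch.coreHolds
    H1.Asch.Red.cover hcl w.2 hw2 ((fixed_one_iff _).mpr (mem_subgroupOf.1 hwM).1) h2').symm, g.2⟩)

end Cfsg.Agent.H88.Core2
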