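import Cfsg.Agent.H10.Core2.Setup
import Cfsg.Agent.Coprime.Centralize
import Cfsg.Agent.Cores.PCore

/-!
# Core killing: inheritance to subgroups and to `G/O(G)`

The data `Sig S W` passes to a subgroup over `S` and to the quotient by the odd core; so under the
inductive hypothesis `W ∩ H ≤ O(H)` for proper such `H`, and `W ≤ O(G)` if `O(G) ≠ 1`.
-/

set_option autoImplicit false
set_option linter.unusedSectionVars false

namespace Cfsg.Agent.H88.Core2

open Subgroup Cfsg.Agent
open Cfsg.Agent.H70.Balanced (Four Linked)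
open Cfsg.Agent.H10.Core2 (Sig KillsBelow)

universe u v

local instance fact_two_core2_inherit : Fact (Nat.Prime 2) := ⟨Nat.prime_two⟩

variable {G : Type u} [Group G] [Finite G]

section Transfer

variable {X : Type u} {Y : Type v} [Group X] [Finite X] [Group Y] [Finite Y] {f : X →* Y}

/-- `f` is injective on `U`. -/
theorem injOn_of_ker {U : Subgroup X} (hf : ∀ x ∈ U, f x = 1 → x = 1) {x y : X} (hx : x ∈ U)
    (hy : y ∈ U) (e : f x = f y) : x = y :=
  inv_mul_eq_one.1 (hf _ (U.mul_mem (U.inv_mem hx) hy) (by rw [map_mul, map_inv, e, inv_mul_cancel]))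

theorem card_map_of_ker {U : Subgroup X} (hf : ∀ x ∈ U, f x = 1 → x = 1) :
    Nat.card ↥(U.map f) = Nat.card U :=
  (Nat.card_eq_of_bijective (fun x : U => (⟨f x, mem_map_of_mem f x.2⟩ : ↥(U.map f)))
    ⟨fun x y e => Subtype.ext (injOn_of_ker hf x.2 y.2 (congrArg Subtype.val e)), fun ⟨_, x, hx, e⟩ =>
      ⟨⟨x, hx⟩, Subtype.ext e⟩⟩).symm

theorem elementary_map {U : Subgroup X} (hU : Cfsg.IsElementaryAbelian 2 U) :
    Cfsg.IsElementaryAbelian 2 (U.map f) := by
  refine ⟨⟨⟨?_⟩⟩, ?_⟩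
  · rintro ⟨_, a, ha, rfl⟩ ⟨_, b, hb, rfl⟩
    refine Subtype.ext ?_
    show f a * f b = f b * f a
    rw [← map_mul, ← map_mul, H36.NilPPrime.elem_comm hU ha hb]
  · rintro _ ⟨a, ha, rfl⟩
    rw [← map_pow, hU.2 a ha, map_one]

theorem four_map {U : Subgroup X} (hf : ∀ x ∈ U, f x = 1 → x = 1) :
    Four (U.map f) ↔ Four U := by
  refine ⟨fun h => ⟨⟨⟨⟨fun a b => Subtype.ext ?_⟩⟩, fun a ha => hf _ (pow_mem ha 2) ?_⟩, ?_⟩,
    fun h => ⟨elementary_map h.1, by rw [card_map_of_ker hf, h.2]⟩⟩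
  · refine injOn_of_ker hf (U.mul_mem a.2 b.2) (U.mul_mem b.2 a.2) ?_
    rw [Subgroup.coe_mul, Subgroup.coe_mul, map_mul, map_mul, H36.NilPPrime.elem_comm h.1 (mem_map_of_mem f a.2) (mem_map_of_mem f b.2)]
  · rw [map_pow, h.1.2 _ (mem_map_of_mem f ha)]
  · rw [← card_map_of_ker hf, h.2]

/-- Linked passes along a homomorphism injective on the 2-group, in both directions. -/
theorem linked_map {S : Subgroup X} (hf : ∀ x ∈ S, f x = 1 → x = 1) :
    Linked (S.map f) ↔ Linked S := by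
  have hsub : ∀ {U : Subgroup X}, U ≤ S → ∀ x ∈ U, f x = 1 → x = 1 := fun hU x hx => hf x (hU hx)
  have hback : ∀ {Z : Subgroup Y}, Z ≤ S.map f → (Z.comap f ⊓ S).map f = Z := fun {Z} hZ => by
    refine le_antisymm (map_le_iff_le_comap.2 inf_le_left) fun z hz => ?_
    obtain ⟨x, hx, rfl⟩ := hZ hz
    exact mem_map_of_mem f ⟨hz, hx⟩
  have hfix : ∀ {U : Subgroup X}, U ≤ S → (U.map f).comap f ⊓ S = U := fun {U} hU => by
    refine le_antisymm ?_ (le_inf (le_comap_map f U) hU)
    rintro x ⟨⟨y, hy, e⟩, hx⟩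
    rwa [← injOn_of_ker hf (hU hy) hx e]
  constructor
  · intro h U V hU hV hU4 hV4
    have h1 := h _ _ (map_mono hU) (map_mono hV) ((four_map (hsub hU)).2 hU4)
      ((four_map (hsub hV)).2 hV4)
    rw [← hfix hU, ← hfix hV]
    generalize V.map f = V' at h1 ⊢
    induction h1 with
    | refl => exact .refl
    | @tail A B _ h2 ih =>
      obtain ⟨hA, hB, hAS, hBS, hc⟩ := h2
      refine ih.tail ⟨?_, ?_, inf_le_right, inf_le_right, fun a ha b hb =>
        injOn_of_ker hf (S.mul_mem ha.2 hb.2) (S.mul_mem hb.2 ha.2)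
          (by rw [map_mul, map_mul, hc _ ha.1 _ hb.1])⟩
      · rw [← four_map (hsub inf_le_right), hback hAS]; exact hA
      · rw [← four_map (hsub inf_le_right), hback hBS]; exact hB
  · intro h U V hU hV hU4 hV4
    have hU' : Four (U.comap f ⊓ S) := by rw [← four_map (hsub inf_le_right), hback hU]; exact hU4
    have hV' : Four (V.comap f ⊓ S) := by rw [← four_map (hsub inf_le_right), hback hV]; exact hV4
    have h1 := h _ _ inf_le_right inf_le_right hU' hV'
    rw [← hback hU, ← hback hV]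
    generalize V.comap f ⊓ S = V' at h1 ⊢
    induction h1 with
    | refl => exact .refl
    | @tail A B _ h2 ih =>
      obtain ⟨hA, hB, hAS, hBS, hc⟩ := h2
      refine ih.tail ⟨(four_map (hsub hAS)).2 hA, (four_map (hsub hBS)).2 hB, map_mono hAS,
        map_mono hBS, ?_⟩
      rintro _ ⟨a, ha, rfl⟩ _ ⟨b, hb, rfl⟩
      rw [← map_mul, hc a ha b hb, map_mul]

/-- The rank passes along a homomorphism injective on an elementary group of order at least 8. -/
theorem not_pRankLE_map {A : Subgroup X} (hA : Cfsg.IsElementaryAbelian 2 A) (h8 : 8 ≤ Nat.card A)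
    (hf : ∀ x ∈ A, f x = 1 → x = 1) : ¬ Cfsg.PRankLE 2 2 Y := fun h => by
  have hAm := elementary_map (f := f) hA
  have h1 := h _ hAm.1 hAm.2
  rw [card_map_of_ker hf] at h1
  omega

end Transfer

variable {S : Sylow 2 G} {W : Subgroup G}

theorem sig_subgroupOf (h : Sig S W) {H : Subgroup G} (hSH : (S : Subgroup G) ≤ H) :
    Sig (S.subtype hSH) (W.subgroupOf H) := by
  refine ⟨h.odd.of_dvd_nat ?_, ?_, fun a g ha ha2 hga => ?_⟩
  · rw [← card_map_of_injective H.subtype_injective]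
    exact card_dvd_of_le (by rw [subgroupOf_map_subtype]; exact inf_le_left)
  · rw [Sylow.coe_subtype]
    exact (comap_mono h.invariant).trans (le_normalizer_comap H.subtype)
  · replace ha : (a : G) ∈ (S : Subgroup G) := ha
    replace hga : ((g * a * g⁻¹ : ↥H) : G) ∈ (S : Subgroup G) := hga
    simp only [Subgroup.coe_mul, Subgroup.coe_inv] at hga
    have he := h.conj (a : G) (g : G) ha (by rwa [Subgroup.orderOf_coe]) hga
    ext x
    constructor
    · rintro ⟨w, ⟨hw, hc⟩, rfl⟩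
      have hm : (g : G) * w * (g : G)⁻¹ ∈ W ⊓ centralizer ({(g : G) * a * (g : G)⁻¹} : Set G) := by
        rw [← he]
        exact ⟨w, ⟨hw, mem_centralizer_singleton_iff.2 (congrArg Subtype.val
          (mem_centralizer_singleton_iff.1 hc) :)⟩, rfl⟩
      exact ⟨hm.1, mem_centralizer_singleton_iff.2 (Subtype.ext
        (mem_centralizer_singleton_iff.1 hm.2))⟩
    · intro hx
      have hm : (x : G) ∈ W ⊓ centralizer ({(g : G) * a * (g : G)⁻¹} : Set G) :=
        ⟨hx.1, mem_centralizer_singleton_iff.2 (congrArg Subtype.val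
          (mem_centralizer_singleton_iff.1 hx.2) :)⟩
      rw [← he] at hm
      obtain ⟨w, ⟨hw, hc⟩, e⟩ := hm
      have hwH : w ∈ H := by
        have hx2 := H.mul_mem (H.mul_mem (H.inv_mem g.2) x.2) g.2
        rwa [← e, show (g : G)⁻¹ * ((MulAut.conj (g : G)).toMonoidHom w) * g = w by
          simp [mul_assoc]] at hx2
      exact ⟨⟨w, hwH⟩, ⟨hw, mem_centralizer_singleton_iff.2 (Subtype.ext
        (mem_centralizer_singleton_iff.1 hc))⟩, Subtype.ext e⟩

/-- **Inheritance to a proper subgroup over `S`.** -/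
theorem inf_le_core (hK : KillsBelow G) (hS : Linked (S : Subgroup G))
    (hr : ¬ Cfsg.PRankLE 2 2 G) (h : Sig S W) {H : Subgroup G} (hSH : (S : Subgroup G) ≤ H)
    (hH : H ≠ ⊤) : W ⊓ H ≤ (Cfsg.oddCore ↥H).map H.subtype := by
  have hlt : Nat.card H < Nat.card G :=
    lt_of_le_of_ne (card_le_card_group H) fun e => hH (H.card_eq_iff_eq_top.1 e)
  have hinj : ∀ x ∈ ((S.subtype hSH : Sylow 2 H) : Subgroup H), H.subtype x = 1 → x = 1 :=
    fun x _ e => H.subtype_injective (e.trans (map_one _).symm)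
  have hL : Linked ((S.subtype hSH : Sylow 2 H) : Subgroup H) := by
    rw [← linked_map hinj, Sylow.coe_subtype, map_subgroupOf_eq_of_le hSH]
    exact hS
  have hrH : ¬ Cfsg.PRankLE 2 2 ↥H := fun hle => by
    obtain ⟨A, hAS, hA, hA8⟩ := H70.Balanced.exists_eight hr S
    have hAH : A ≤ H := hAS.trans hSH
    have hc : IsMulCommutative ↥(A.subgroupOf H) :=
      ⟨⟨fun a b => Subtype.ext (Subtype.ext
        (H36.NilPPrime.elem_comm hA (mem_subgroupOf.1 a.2) (mem_subgroupOf.1 b.2)))⟩⟩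
    have h1 := hle _ hc fun a ha => Subtype.ext (by simpa using hA.2 _ (mem_subgroupOf.1 ha))
    rw [Nat.card_congr (subgroupOfEquivOfLe hAH).toEquiv] at h1
    omega
  have h1 := hK ↥H hlt (S.subtype hSH) (W.subgroupOf H) (sig_subgroupOf h hSH) hL hrH
  refine le_trans (le_of_eq ?_) (map_mono (f := H.subtype) h1)
  rw [subgroupOf_map_subtype]

/-- **Inheritance to the quotient by the odd core.** -/
theorem le_oddCore_of_core_ne_bot (hK : KillsBelow G) (hS : Linked (S : Subgroup G))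
    (hr : ¬ Cfsg.PRankLE 2 2 G) (h : Sig S W) (hO : Cfsg.oddCore G ≠ ⊥) :
    W ≤ Cfsg.oddCore G := by
  set K := Cfsg.oddCore G with hKdef
  have hKn : K.Normal := inferInstance
  have hKodd : Odd (Nat.card K) := Cores.odd_card_oddCore
  set π := QuotientGroup.mk' K with hπ
  have hker : ∀ x, π x = 1 ↔ x ∈ K := fun x => QuotientGroup.eq_one_iff x
  have hlt : Nat.card (G ⧸ K) < Nat.card G := by
    have h1 := K.card_eq_card_quotient_mul_card_subgroup
    have h2 : 1 < Nat.card K := (one_lt_card_iff_ne_bot K).2 hO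
    have h3 : 0 < Nat.card (G ⧸ K) := Nat.card_pos
    rw [h1]
    exact lt_mul_of_one_lt_right h3 h2
  have hinj : ∀ x ∈ (S : Subgroup G), π x = 1 → x = 1 := fun x hx e => by
    obtain ⟨k, hk⟩ := IsPGroup.iff_orderOf.1 S.isPGroup' ⟨x, hx⟩
    rw [Subgroup.orderOf_mk] at hk
    exact orderOf_eq_one_iff.1 (Nat.eq_one_of_dvd_coprimes (Nat.Coprime.pow_left k
      (Nat.coprime_two_left.2 hKodd)) hk.dvd (orderOf_dvd_natCard K ((hker x).1 e)))
  set S' : Sylow 2 (G ⧸ K) := S.mapSurjective (QuotientGroup.mk'_surjective K)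
  have hS' : (S' : Subgroup (G ⧸ K)) = (S : Subgroup G).map π := Sylow.coe_mapSurjective _ _
  have hL : Linked (S' : Subgroup (G ⧸ K)) := by rw [hS', linked_map hinj]; exact hS
  have hrQ : ¬ Cfsg.PRankLE 2 2 (G ⧸ K) := by
    obtain ⟨A, hAS, hA, hA8⟩ := H70.Balanced.exists_eight hr S
    exact not_pRankLE_map hA hA8 fun x hx => hinj x (hAS hx)
  have hfixed : ∀ a ∈ (S : Subgroup G), orderOf a = 2 →
      W.map π ⊓ centralizer ({π a} : Set (G ⧸ K)) = (W ⊓ centralizer ({a} : Set G)).map π := by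
    intro a ha ha2
    refine le_antisymm ?_ (le_inf (map_mono inf_le_left) ?_)
    · rintro _ ⟨⟨w, hw, rfl⟩, hc⟩
      have haW : zpowers a ≤ normalizer (W : Set G) := zpowers_le.2 (h.invariant ha)
      have hfix : ∀ b ∈ zpowers a, w⁻¹ * (b * w * b⁻¹) ∈ W ⊓ K := by
        intro b hb
        refine ⟨W.mul_mem (W.inv_mem hw) ((mem_normalizer_iff.1 (haW hb) w).1 hw), (hker _).1 ?_⟩
        obtain ⟨n, rfl⟩ := mem_zpowers_iff.1 hb
        have hcm : Commute (π w) (π (a ^ n)) := by
          rw [map_zpow]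
          exact Commute.zpow_right (mem_centralizer_singleton_iff.1 hc : π w * π a = π a * π w) n
        rw [map_mul, map_mul, map_mul, map_inv, map_inv, ← hcm.eq, mul_inv_cancel_right,
          inv_mul_cancel]
      obtain ⟨n, hn, hcn⟩ := Coprime.exists_commute_mem_coset (p := 2)
        (IsPGroup.of_card (n := 1) (by rw [Nat.card_zpowers, ha2, pow_one]))
        ((le_inf haW (by rw [normalizer_eq_top_iff.2 hKn]; exact le_top)).trans
          inf_normalizer_le_normalizer_inf)
        (fun hd => Nat.not_even_iff_odd.2 (h.odd.of_dvd_nat (card_dvd_of_le inf_le_left))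
          (even_iff_two_dvd.2 hd)) hfix
      refine ⟨w * n, ⟨W.mul_mem hw hn.1, centralizer_le
        (Set.singleton_subset_iff.2 (mem_zpowers a)) hcn⟩, ?_⟩
      rw [map_mul, (hker n).2 hn.2, mul_one]
    · rintro _ ⟨w, hw, rfl⟩
      refine mem_centralizer_singleton_iff.2 ?_
      rw [← map_mul, ← map_mul, mem_centralizer_singleton_iff.1 hw.2]
  have hsig : Sig S' (W.map π) := by
    refine ⟨h.odd.of_dvd_nat (card_map_dvd _ _), ?_, fun a g ha ha2 hga => ?_⟩
    · rw [hS']
      exact (map_mono h.invariant).trans (le_normalizer_map π)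
    replace ha : a ∈ (S : Subgroup G).map π := hS' ▸ (show a ∈ (S' : Subgroup (G ⧸ K)) from ha)
    replace hga : g * a * g⁻¹ ∈ (S : Subgroup G).map π :=
      hS' ▸ (show g * a * g⁻¹ ∈ (S' : Subgroup (G ⧸ K)) from hga)
    obtain ⟨a, haS, rfl⟩ := ha
    obtain ⟨g, rfl⟩ := QuotientGroup.mk'_surjective K g
    obtain ⟨t, htS, ht⟩ := hga
    have hord : ∀ {x : G}, x ∈ (S : Subgroup G) → orderOf (π x) = 2 → orderOf x = 2 := by
      intro x hx h2
      refine orderOf_eq_prime (hinj _ (pow_mem hx 2) ?_) fun e => ?_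
      · rw [map_pow, ← h2, pow_orderOf_eq_one]
      · rw [e, map_one, orderOf_one] at h2
        omega
    have ha2' := hord haS ha2
    have ht2 : orderOf t = 2 := hord htS (by rw [ht, H39.orderOf_conj, ha2])
    have hu2 : orderOf (g * a * g⁻¹) = 2 := by rw [H39.orderOf_conj, ha2']
    have heq : π (g * a * g⁻¹) = π t := by rw [ht, map_mul, map_mul, map_inv]
    have hmem : t * (g * a * g⁻¹) ∈ K := by
      rw [← hker, map_mul, heq, ← map_mul, show t * t = 1 by
        rw [← pow_two, ← ht2, pow_orderOf_eq_one], map_one]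
    obtain ⟨k, hk, -, -, hkt⟩ := H39.exists_conj_of_odd hu2 ht2
      (hKodd.of_dvd_nat (orderOf_dvd_natCard K hmem))
    have hπk : π k = 1 := (hker k).2 (zpowers_le.2 hmem hk)
    have e1 : k * g * a * (k * g)⁻¹ = t := by rw [← hkt]; group
    have hc := congrArg (Subgroup.map π) (h.conj a (k * g) haS ha2' (e1 ▸ htS))
    rw [e1] at hc
    have e2 : π g * π a * (π g)⁻¹ = π t := by rw [← map_inv, ← map_mul, ← map_mul, heq]
    rw [e2, hfixed a haS ha2', hfixed t htS ht2, ← hc, Subgroup.map_map, Subgroup.map_map]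
    congr 1
    ext x
    simp [hπk]
    rfl
  have h1 := hK (G ⧸ K) hlt S' (W.map π) hsig hL hrQ
  have h2 : Cfsg.oddCore (G ⧸ K) = ⊥ := Cores.pPrimeCore_quotient_pPrimeCore (p := 2) (G := G)
  rw [h2] at h1
  intro w hw
  exact (hker w).1 (mem_bot.1 (h1 (mem_map_of_mem π hw)))

end Cfsg.Agent.H88.Core2
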